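/-
Hyperbolic coordinates on the unitary space of dimension `2 m + r`, and the elements of the Siegel parabolic.
-/
import Cfsg.Agent.Lib.SU.Basic

set_option autoImplicit false

namespace CfsgLib.Classical.WeilSU

open Matrix CfsgLib.SU

variable {F : Type*} [Field F] [StarRing F] {q n m r : ℕ}

/-- Indices: two dual isotropic parts and an anisotropic part. -/
abbrev Idx (m r : ℕ) : Type := (Fin m ⊕ Fin m) ⊕ Fin r

/-- A matrix given by nine blocks. -/
def blk3 (a : Matrix (Fin m) (Fin m) F) (b : Matrix (Fin m) (Fin m) F) (c : Matrix (Fin m) (Fin r) F)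
    (d : Matrix (Fin m) (Fin m) F) (e : Matrix (Fin m) (Fin m) F) (f : Matrix (Fin m) (Fin r) F)
    (g : Matrix (Fin r) (Fin m) F) (h : Matrix (Fin r) (Fin m) F) (i : Matrix (Fin r) (Fin r) F) :
    Matrix (Idx m r) (Idx m r) F :=
  fromBlocks (fromBlocks a b d e) (fromRows c f) (fromCols g h) i

omit [StarRing F] in
theorem blk3_mul (a b : Matrix (Fin m) (Fin m) F) (c : Matrix (Fin m) (Fin r) F) (d e : Matrix (Fin m) (Fin m) F)
    (f : Matrix (Fin m) (Fin r) F) (g h : Matrix (Fin r) (Fin m) F) (i : Matrix (Fin r) (Fin r) F)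
    (a' b' : Matrix (Fin m) (Fin m) F) (c' : Matrix (Fin m) (Fin r) F) (d' e' : Matrix (Fin m) (Fin m) F)
    (f' : Matrix (Fin m) (Fin r) F) (g' h' : Matrix (Fin r) (Fin m) F) (i' : Matrix (Fin r) (Fin r) F) :
    blk3 a b c d e f g h i * blk3 a' b' c' d' e' f' g' h' i' =
      blk3 (a * a' + b * d' + c * g') (a * b' + b * e' + c * h') (a * c' + b * f' + c * i')
        (d * a' + e * d' + f * g') (d * b' + e * e' + f * h') (d * c' + e * f' + f * i')
        (g * a' + h * d' + i * g') (g * b' + h * e' + i * h') (g * c' + h * f' + i * i') := by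
  ext x y
  rcases x with (x | x) | x <;> rcases y with (y | y) | y <;>
    simp [blk3, Matrix.mul_apply, Fintype.sum_sum_type, add_assoc]

theorem blk3_conjTranspose (a b : Matrix (Fin m) (Fin m) F) (c : Matrix (Fin m) (Fin r) F)
    (d e : Matrix (Fin m) (Fin m) F) (f : Matrix (Fin m) (Fin r) F) (g h : Matrix (Fin r) (Fin m) F)
    (i : Matrix (Fin r) (Fin r) F) :
    (blk3 a b c d e f g h i)ᴴ = blk3 aᴴ dᴴ gᴴ bᴴ eᴴ hᴴ cᴴ fᴴ iᴴ := by
  ext x y
  rcases x with (x | x) | x <;> rcases y with (y | y) | y <;> rfl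

omit [StarRing F] in
theorem blk3_one :
    blk3 (r := r) (m := m) (1 : Matrix (Fin m) (Fin m) F) 0 0 0 1 0 0 0 1 = 1 := by
  rw [blk3, fromRows_zero, fromCols_zero, fromBlocks_one, fromBlocks_one]

omit [StarRing F] in
theorem det_blk3_upper (a b e : Matrix (Fin m) (Fin m) F) (c : Matrix (Fin m) (Fin r) F)
    (h : Matrix (Fin r) (Fin m) F) :
    (blk3 a b c 0 e 0 0 h (1 : Matrix (Fin r) (Fin r) F)).det = (fromBlocks a (b - c * h) 0 e).det := by
  rw [blk3, det_fromBlocks_one₂₂, fromRows_mul_fromCols]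
  congr 1
  ext x y
  rcases x with x | x <;> rcases y with y | y <;> simp

/-- The hyperbolic form. -/
def hH : Matrix (Idx m r) (Idx m r) F := blk3 0 1 0 1 0 0 0 0 1

omit [StarRing F] in
theorem hH_sq : (hH : Matrix (Idx m r) (Idx m r) F) * hH = 1 := by
  rw [hH, blk3_mul, ← blk3_one]
  simp

/-- A hyperbolic frame of the standard unitary space. -/
structure Frame (F : Type*) [Field F] [StarRing F] (q n m r : ℕ) where
  /-- the conjugation -/
  C : UCtx F q
  hs : ∀ x : F, star x = C.bar x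
  /-- the indexing -/
  idx : Fin n ≃ Idx m r
  /-- an element of norm `-1` -/
  l : F
  /-- an element of trace `-1` -/
  t : F
  hl : star l * l = -1
  ht : t + star t = -1

variable (fr : Frame F q n m r)

/-- The change of coordinates. -/
def Frame.base : Matrix (Idx m r) (Idx m r) F :=
  blk3 1 ((1 + fr.t) • 1) 0 (fr.l • 1) ((fr.t * fr.l) • 1) 0 0 0 1

theorem Frame.base_conj : (fr.base)ᴴ * fr.base = hH := by
  have h1 : star fr.l * fr.l = -1 := fr.hl
  have h2 : star fr.t = -1 - fr.t := by linear_combination fr.ht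
  rw [Frame.base, blk3_conjTranspose, blk3_mul, hH]
  simp only [conjTranspose_one, conjTranspose_zero, conjTranspose_smul, Matrix.one_mul, Matrix.mul_one,
    Matrix.zero_mul, Matrix.mul_zero, add_zero, zero_add, Matrix.smul_mul, Matrix.mul_smul, smul_smul, star_add,
    star_one, star_mul', smul_zero]
  congr 1
  · conv_lhs => arg 1; rw [← one_smul F (1 : Matrix (Fin m) (Fin m) F)]
    rw [← add_smul, mul_comm, h1, add_neg_cancel, zero_smul]
  · rw [← add_smul]
    conv_rhs => rw [← one_smul F (1 : Matrix (Fin m) (Fin m) F)]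
    congr 1
    linear_combination fr.t * h1
  · rw [← add_smul]
    conv_rhs => rw [← one_smul F (1 : Matrix (Fin m) (Fin m) F)]
    congr 1
    linear_combination (star fr.t) * h1
  · rw [← add_smul, ← zero_smul F (1 : Matrix (Fin m) (Fin m) F)]
    congr 1
    linear_combination (fr.t * star fr.t) * h1 + h2

theorem Frame.inv_base : hH * (fr.base)ᴴ * fr.base = 1 := by
  rw [Matrix.mul_assoc, fr.base_conj, hH_sq]

theorem Frame.base_inv : fr.base * (hH * (fr.base)ᴴ) = 1 :=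
  mul_eq_one_comm.1 fr.inv_base

/-- The matrix of an isometry of the hyperbolic form in standard coordinates. -/
def Frame.toMat (X : Matrix (Idx m r) (Idx m r) F) : Matrix (Fin n) (Fin n) F :=
  (fr.base * X * (hH * (fr.base)ᴴ)).submatrix fr.idx fr.idx

theorem Frame.toMat_mul (X Y : Matrix (Idx m r) (Idx m r) F) :
    fr.toMat (X * Y) = fr.toMat X * fr.toMat Y := by
  rw [Frame.toMat, Frame.toMat, Frame.toMat, submatrix_mul_equiv]
  congr 1
  simp only [Matrix.mul_assoc]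
  rw [← Matrix.mul_assoc hH (fr.base)ᴴ (fr.base * _), ← Matrix.mul_assoc (hH * (fr.base)ᴴ) fr.base, fr.inv_base,
    Matrix.one_mul]

theorem Frame.toMat_det (X : Matrix (Idx m r) (Idx m r) F) : (fr.toMat X).det = X.det := by
  rw [Frame.toMat, det_submatrix_equiv_self, det_mul, det_mul, mul_right_comm, ← det_mul, fr.base_inv, det_one,
    one_mul]

theorem Frame.toMat_unitary {X : Matrix (Idx m r) (Idx m r) F} (h : Xᴴ * hH * X = hH) :
    (fr.toMat X)ᴴ * fr.toMat X = 1 := by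
  rw [Frame.toMat, conjTranspose_submatrix, submatrix_mul_equiv]
  rw [show (fr.base * X * (hH * (fr.base)ᴴ))ᴴ * (fr.base * X * (hH * (fr.base)ᴴ)) =
      (hH * (fr.base)ᴴ)ᴴ * (Xᴴ * ((fr.base)ᴴ * fr.base) * X) * (hH * (fr.base)ᴴ) by
    simp only [conjTranspose_mul, Matrix.mul_assoc], fr.base_conj, h, conjTranspose_mul, conjTranspose_conjTranspose,
    show (hH : Matrix (Idx m r) (Idx m r) F)ᴴ = hH by rw [hH, blk3_conjTranspose]; simp]
  rw [Matrix.mul_assoc fr.base, hH_sq, Matrix.mul_one, fr.base_inv, submatrix_one_equiv]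

/-- An element of `SU` from an isometry of the hyperbolic form of determinant one. -/
def Frame.toSU (X : Matrix (Idx m r) (Idx m r) F) (h : Xᴴ * hH * X = hH) (hd : X.det = 1) : ↥(Cfsg.SU n F q) :=
  fr.C.mkSU (fr.toMat X) (by rw [fr.toMat_det, hd]) fun u v => by
    have hstar : ∀ w : Fin n → F, (fun i => fr.C.bar (w i)) = star w := fun w => funext fun i => (fr.hs _).symm
    have hform : ∀ a b : Fin n → F, fr.C.form a b = star b ⬝ᵥ a := fun a b => by
      rw [← hstar, dotProduct_comm]; rfl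
    rw [hform, hform, star_mulVec, ← dotProduct_mulVec, mulVec_mulVec, fr.toMat_unitary h, one_mulVec]

theorem Frame.toSU_val (X : Matrix (Idx m r) (Idx m r) F) (h : Xᴴ * hH * X = hH) (hd : X.det = 1) :
    (fr.toSU X h hd).1.1 = fr.toMat X := rfl

theorem Frame.toSU_congr {X Y : Matrix (Idx m r) (Idx m r) F} {h : Xᴴ * hH * X = hH} {h' : Yᴴ * hH * Y = hH}
    {hd : X.det = 1} {hd' : Y.det = 1} (e : X = Y) : fr.toSU X h hd = fr.toSU Y h' hd' := by
  subst e; rfl

theorem Frame.toSU_mul_eq {X Y Z W : Matrix (Idx m r) (Idx m r) F} {hX : Xᴴ * hH * X = hH} {hY : Yᴴ * hH * Y = hH}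
    {hZ : Zᴴ * hH * Z = hH} {hW : Wᴴ * hH * W = hH} {dX : X.det = 1} {dY : Y.det = 1} {dZ : Z.det = 1}
    {dW : W.det = 1} :
    fr.toSU X hX dX * fr.toSU Y hY dY = fr.toSU Z hZ dZ * fr.toSU W hW dW ↔ X * Y = Z * W := by
  have key : ∀ A B, fr.toMat A = fr.toMat B → A = B := fun A B e => by
    have e1 : fr.base * A * (hH * (fr.base)ᴴ) = fr.base * B * (hH * (fr.base)ᴴ) :=
      Matrix.ext fun i j => by simpa [Frame.toMat] using congrFun (congrFun e (fr.idx.symm i)) (fr.idx.symm j)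
    have e2 := congrArg (fun Z => hH * (fr.base)ᴴ * Z * fr.base) e1
    simp only [← Matrix.mul_assoc, fr.inv_base, Matrix.one_mul] at e2
    simp only [Matrix.mul_assoc] at e2
    simpa [← Matrix.mul_assoc hH, fr.inv_base] using e2
  refine ⟨fun e => key _ _ ?_, fun e => Subtype.ext (Subtype.ext ?_)⟩
  · rw [fr.toMat_mul, fr.toMat_mul]
    exact congrArg (fun g : ↥(Cfsg.SU n F q) => g.1.1) e
  · show fr.toMat X * fr.toMat Y = fr.toMat Z * fr.toMat W
    rw [← fr.toMat_mul, ← fr.toMat_mul, e]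

/-- The matrices of the unipotent radical. -/
def yMat (v : Matrix (Fin m) (Fin r) F) (σ : Matrix (Fin m) (Fin m) F) : Matrix (Idx m r) (Idx m r) F :=
  blk3 1 σ v 0 1 0 0 (-vᴴ) 1

theorem yMat_isom {v : Matrix (Fin m) (Fin r) F} {σ : Matrix (Fin m) (Fin m) F} (h : σ + σᴴ + v * vᴴ = 0) :
    (yMat v σ)ᴴ * hH * yMat v σ = hH := by
  rw [yMat, blk3_conjTranspose, hH, blk3_mul, blk3_mul]
  simp
  rw [← h]

theorem yMat_det (v : Matrix (Fin m) (Fin r) F) (σ : Matrix (Fin m) (Fin m) F) : (yMat v σ).det = 1 := by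
  rw [yMat, det_blk3_upper, det_fromBlocks_zero₂₁, det_one, one_mul]

theorem yMat_mul (v w : Matrix (Fin m) (Fin r) F) (σ σ' : Matrix (Fin m) (Fin m) F) :
    yMat v σ * yMat w σ' = yMat (v + w) (σ + σ' - v * wᴴ) := by
  rw [yMat, yMat, yMat, blk3_mul]
  simp [conjTranspose_add]
  congr 1 <;> abel

/-- An element of the unipotent radical. -/
def Frame.yel (v : Matrix (Fin m) (Fin r) F) (σ : Matrix (Fin m) (Fin m) F) (h : σ + σᴴ + v * vᴴ = 0) :
    ↥(Cfsg.SU n F q) :=
  fr.toSU (yMat v σ) (yMat_isom h) (yMat_det v σ)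

theorem Frame.yel_mul {v w : Matrix (Fin m) (Fin r) F} {σ σ' : Matrix (Fin m) (Fin m) F}
    (h : σ + σᴴ + v * vᴴ = 0) (h' : σ' + σ'ᴴ + w * wᴴ = 0)
    (h'' : (σ + σ' - v * wᴴ) + (σ + σ' - v * wᴴ)ᴴ + (v + w) * (v + w)ᴴ = 0) :
    fr.yel v σ h * fr.yel w σ' h' = fr.yel (v + w) (σ + σ' - v * wᴴ) h'' := by
  refine Subtype.ext (Subtype.ext ?_)
  show fr.toMat (yMat v σ) * fr.toMat (yMat w σ') = fr.toMat (yMat (v + w) (σ + σ' - v * wᴴ))
  rw [← fr.toMat_mul, yMat_mul]

/-- The matrices of the Levi factor. -/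
noncomputable def leviMat (g : Matrix (Fin m) (Fin m) F) (d : F) : Matrix (Idx m r) (Idx m r) F :=
  blk3 g 0 0 0 (gᴴ)⁻¹ 0 0 0 (d • 1)

theorem leviMat_isom {g : Matrix (Fin m) (Fin m) F} {d : F} (hg : g.det ≠ 0) (hd : star d * d = 1) :
    (leviMat (r := r) g d)ᴴ * hH * leviMat g d = hH := by
  have hu : IsUnit g.det := isUnit_iff_ne_zero.2 hg
  have hu' : IsUnit (gᴴ).det := by rw [det_conjTranspose]; exact isUnit_iff_ne_zero.2 (star_ne_zero.2 hg)
  rw [leviMat, blk3_conjTranspose, hH, blk3_mul, blk3_mul]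
  simp [conjTranspose_nonsing_inv, Matrix.mul_nonsing_inv _ hu', Matrix.nonsing_inv_mul _ hu, smul_smul, mul_comm d, hd]

theorem leviMat_det {g : Matrix (Fin m) (Fin m) F} {d : F} (hg : g.det ≠ 0)
    (hd : g.det * d ^ r = star g.det) : (leviMat (r := r) g d).det = 1 := by
  rw [leviMat, blk3, fromRows_zero, fromCols_zero, det_fromBlocks_zero₁₂, det_fromBlocks_zero₁₂,
    det_smul, det_one, det_nonsing_inv, det_conjTranspose, mul_one, Fintype.card_fin, mul_right_comm, hd]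
  simp [hg]

/-- An element of the Levi factor. -/
noncomputable def Frame.levi (g : Matrix (Fin m) (Fin m) F) (d : F) (hg : g.det ≠ 0) (hd : star d * d = 1)
    (hdet : g.det * d ^ r = star g.det) : ↥(Cfsg.SU n F q) :=
  fr.toSU (leviMat g d) (leviMat_isom hg hd) (leviMat_det hg hdet)

theorem Frame.levi_mul_yel {g : Matrix (Fin m) (Fin m) F} {d : F} (hg : g.det ≠ 0) (hd : star d * d = 1)
    (hdet : g.det * d ^ r = star g.det) {S S' : Matrix (Fin m) (Fin m) F}
    (h : S + Sᴴ + (0 : Matrix (Fin m) (Fin r) F) * (0 : Matrix (Fin m) (Fin r) F)ᴴ = 0)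
    (h' : S' + S'ᴴ + (0 : Matrix (Fin m) (Fin r) F) * (0 : Matrix (Fin m) (Fin r) F)ᴴ = 0)
    (e : S' = g * S * gᴴ) :
    fr.levi g d hg hd hdet * fr.yel 0 S h = fr.yel 0 S' h' * fr.levi g d hg hd hdet := by
  refine fr.toSU_mul_eq.2 ?_
  rw [leviMat, yMat, yMat, blk3_mul, blk3_mul]
  have hu' : IsUnit (gᴴ).det := by rw [det_conjTranspose]; exact isUnit_iff_ne_zero.2 (star_ne_zero.2 hg)
  simp [e, Matrix.mul_assoc, Matrix.mul_nonsing_inv _ hu']

/-- A noncentrality criterion. -/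
theorem Frame.yel_not_central {S : Matrix (Fin m) (Fin m) F}
    (h : S + Sᴴ + (0 : Matrix (Fin m) (Fin r) F) * (0 : Matrix (Fin m) (Fin r) F)ᴴ = 0) (hS : S * S ≠ 0) :
    fr.yel 0 S h ∉ Subgroup.center ↥(Cfsg.SU n F q) := by
  intro hc
  have hS' : S + Sᴴ = 0 := by simpa using h
  have hiso : (blk3 1 0 (0 : Matrix (Fin m) (Fin r) F) S 1 0 0 0 1)ᴴ * hH * blk3 1 0 0 S 1 0 0 0 1 = hH := by
    rw [blk3_conjTranspose, hH, blk3_mul, blk3_mul]
    simp
    congr 1
    rw [add_comm, hS']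
  have hdet : (blk3 (1 : Matrix (Fin m) (Fin m) F) 0 (0 : Matrix (Fin m) (Fin r) F) S 1 0 0 0 1).det = 1 := by
    rw [blk3, fromRows_zero, fromCols_zero, det_fromBlocks_zero₁₂, det_fromBlocks_zero₁₂, det_one, det_one,
      one_mul, one_mul]
  have e := fr.toSU_mul_eq.1 (Subgroup.mem_center_iff.1 hc (fr.toSU _ hiso hdet))
  rw [yMat, blk3_mul, blk3_mul] at e
  have e' : (1 : Matrix (Fin m) (Fin m) F) = 1 + S * S := by
    ext i j
    simpa [blk3] using congrFun (congrFun e (Sum.inl (Sum.inl i))) (Sum.inl (Sum.inl j))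
  exact hS (left_eq_add.1 e')

end CfsgLib.Classical.WeilSU
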