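/-
A nonzero Hermitian matrix over a field with `q ^ 2` elements has at least `(q ^ (2 m) - 1) / (q + 1)` congruent
matrices, already under unimodular congruences when `m ≥ 2`.
-/
import Cfsg.Agent.Lib.Classical.WeilSp.SymOrbit
import Cfsg.Agent.Lib.SU.Ctx

set_option autoImplicit false

namespace CfsgLib.Classical.WeilSU

open Matrix CfsgLib.SU CfsgLib.Classical.WeilSp

variable {F : Type*} [Field F] [StarRing F]

/-- The facts about the conjugation that are used. -/
structure Conj (F : Type*) [Field F] [StarRing F] [Fintype F] (q : ℕ) : Prop where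
  two_le : 2 ≤ q
  card : Fintype.card F = q ^ 2
  norm : ∀ c : F, star c = c → ∃ x, star x * x = c
  trace : ∀ c : F, star c = c → ∃ x, x + star x = c
  nonfixed : ∃ y : F, star y ≠ y
  fixed_le : ∀ s : Finset F, (∀ c, star c = c → c ∈ s) → q ≤ s.card
  trzero_le : ∀ s : Finset F, (∀ c ∈ s, c + star c = 0) → s.card ≤ q

theorem sesq_swap {n : ℕ} {A : Matrix (Fin n) (Fin n) F} (hA : Aᴴ = A) (x y : Fin n → F) :
    star (star x ⬝ᵥ A *ᵥ y) = star y ⬝ᵥ A *ᵥ x := by
  rw [star_dotProduct, star_star, star_mulVec, hA, ← dotProduct_mulVec]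

theorem sesq_add {n : ℕ} (A : Matrix (Fin n) (Fin n) F) (a b : Fin n → F) :
    star (a + b) ⬝ᵥ A *ᵥ (a + b) =
      star a ⬝ᵥ A *ᵥ a + star a ⬝ᵥ A *ᵥ b + (star b ⬝ᵥ A *ᵥ a + star b ⬝ᵥ A *ᵥ b) := by
  simp only [star_add, add_dotProduct, mulVec_add, dotProduct_add]
  ring

theorem sesq_smul {n : ℕ} (A : Matrix (Fin n) (Fin n) F) (x : F) (a : Fin n → F) :
    star (x • a) ⬝ᵥ A *ᵥ (x • a) = star x * x * (star a ⬝ᵥ A *ᵥ a) := by
  simp [star_smul, mulVec_smul]
  ring

theorem congr_apply_star {n : ℕ} (g A : Matrix (Fin n) (Fin n) F) (i j : Fin n) :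
    (gᴴ * A * g) i j = star (g *ᵥ Pi.single i 1) ⬝ᵥ A *ᵥ (g *ᵥ Pi.single j 1) := by
  rw [mulVec_mulVec, mulVec_single_one, mulVec_single_one, Matrix.mul_assoc, Matrix.mul_apply]
  rfl

/-- A bordered congruence. -/
def bord {n : ℕ} (δ : F) (g : Matrix (Fin n) (Fin n) F) : Matrix (Fin (n + 1)) (Fin (n + 1)) F :=
  Matrix.of (Fin.cons (Fin.cons δ 0) fun i => Fin.cons 0 (g i))

omit [StarRing F] in
theorem det_bord {n : ℕ} (δ : F) (g : Matrix (Fin n) (Fin n) F) : (bord δ g).det = δ * g.det := by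
  rw [Matrix.det_succ_row_zero, Fin.sum_univ_succ]
  simp [bord]
  exact Or.inl rfl

theorem congr_pad {n : ℕ} (δ : F) (g C : Matrix (Fin n) (Fin n) F) :
    (bord δ g)ᴴ * pad C * bord δ g = pad (gᴴ * C * g) := by
  ext i j
  rw [Matrix.mul_assoc, Matrix.mul_apply, Fin.sum_univ_succ]
  simp only [Matrix.mul_apply, Fin.sum_univ_succ]
  refine Fin.cases ?_ (fun i => ?_) i <;> refine Fin.cases ?_ (fun j => ?_) j <;>
    simp [pad, bord, Matrix.mul_apply, Finset.mul_sum, mul_assoc]

omit [StarRing F] in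
theorem exists_sl_col {n : ℕ} {v : Fin (n + 2) → F} (hv : v ≠ 0) :
    ∃ g : Matrix (Fin (n + 2)) (Fin (n + 2)) F, g.det = 1 ∧ g *ᵥ Pi.single 0 1 = v := by
  classical
  obtain ⟨g, hg, hgv⟩ := exists_gl_col hv
  refine ⟨g * diagonal (Function.update 1 1 g.det⁻¹), ?_, ?_⟩
  · rw [det_mul, det_diagonal, Finset.prod_update_of_mem (Finset.mem_univ _)]
    simp [mul_inv_cancel₀ hg]
  · rw [← mulVec_mulVec, diagonal_mulVec_single, mul_one]
    rw [Function.update_of_ne (by simp), Pi.one_apply, hgv]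

variable [Fintype F] {q : ℕ}

theorem exists_anisotropic (hC : Conj F q) {n : ℕ} {A : Matrix (Fin n) (Fin n) F} (hA : Aᴴ = A) (h0 : A ≠ 0) :
    ∃ a, star a ⬝ᵥ A *ᵥ a ≠ 0 := by
  classical
  by_contra h
  push Not at h
  refine h0 (Matrix.ext fun i j => ?_)
  have hs : ∀ i j (a b : F), star (Pi.single i a : Fin n → F) ⬝ᵥ A *ᵥ Pi.single j b = star a * A i j * b := by
    intro i j a b
    rw [← Pi.single_star, single_dotProduct, mulVec_single]
    simp [mul_assoc]
  have hii : ∀ i, A i i = 0 := fun i => by simpa [hs] using h (Pi.single i 1)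
  rw [Matrix.zero_apply]
  by_contra hij
  obtain ⟨x, hx⟩ := hC.trace 1 (star_one F)
  have hh := h (Pi.single i 1 + Pi.single j (x / A i j))
  rw [sesq_add, hs, hs, hs, hs, hii, hii, show A j i = star (A i j) by rw [← conjTranspose_apply, hA]] at hh
  simp only [star_one, one_mul, mul_one, mul_zero, zero_mul, zero_add, add_zero, mul_div_cancel₀ _ hij] at hh
  rw [← star_mul', div_mul_cancel₀ _ hij, hx] at hh
  exact one_ne_zero hh

theorem exists_isotropic (hC : Conj F q) {n : ℕ} (hn : 2 ≤ n) {A : Matrix (Fin n) (Fin n) F} (hA : Aᴴ = A) :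
    ∃ z, z ≠ 0 ∧ star z ⬝ᵥ A *ᵥ z = 0 := by
  classical
  rcases eq_or_ne A 0 with rfl | h0
  · exact ⟨Pi.single ⟨0, by omega⟩ 1, by simp, by simp⟩
  obtain ⟨a, ha⟩ := exists_anisotropic hC hA h0
  let f : (Fin n → F) →ₗ[F] (Unit → F) :=
    { toFun := fun x _ => star a ⬝ᵥ A *ᵥ x
      map_add' := fun x y => by ext; simp [mulVec_add, dotProduct_add]
      map_smul' := fun r x => by ext; simp [mulVec_smul, dotProduct_smul] }
  obtain ⟨x, hx, hx0⟩ := Submodule.exists_mem_ne_zero_of_ne_bot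
    (LinearMap.ker_ne_bot_of_finrank_lt (f := f) (by simp; omega))
  have hax : star a ⬝ᵥ A *ᵥ x = 0 := congrFun (LinearMap.mem_ker.1 hx) ()
  have hxa : star x ⬝ᵥ A *ᵥ a = 0 := by rw [← sesq_swap hA, hax, star_zero]
  set α := star a ⬝ᵥ A *ᵥ a
  set β := star x ⬝ᵥ A *ᵥ x with hβ
  rcases eq_or_ne β 0 with hb | hb
  · exact ⟨x, hx0, hb⟩
  obtain ⟨s, hs⟩ := hC.norm (-β / α) (by rw [star_div₀, star_neg, sesq_swap hA, sesq_swap hA])
  refine ⟨s • a + x, fun e => ha ?_, ?_⟩
  · have e' := congrArg (fun v => star a ⬝ᵥ A *ᵥ v) e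
    simp only [mulVec_add, mulVec_smul, dotProduct_add, dotProduct_smul, smul_eq_mul, hax, add_zero, mulVec_zero,
      dotProduct_zero, mul_eq_zero] at e'
    refine e'.resolve_left fun h => hb ?_
    rw [h, mul_zero, eq_comm, div_eq_zero_iff, neg_eq_zero] at hs
    exact hs.resolve_right ha
  · rw [sesq_add, sesq_smul, hs, star_smul, smul_dotProduct, mulVec_smul, dotProduct_smul, hax, hxa]
    rw [show star a ⬝ᵥ A *ᵥ a = α from rfl, ← hβ, div_mul_cancel₀ _ ha]
    simp

/-- One step of the count: matrices closed under unimodular congruences in size `n + 2`. -/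
theorem step (hC : Conj F q) {n : ℕ} (S : Finset (Matrix (Fin (n + 2)) (Fin (n + 2)) F))
    (hS : ∀ g : Matrix (Fin (n + 2)) (Fin (n + 2)) F, g.det = 1 → ∀ B ∈ S, gᴴ * B * g ∈ S)
    (ih : ∀ S' : Finset (Matrix (Fin (n + 1)) (Fin (n + 1)) F),
      (∀ g : Matrix (Fin (n + 1)) (Fin (n + 1)) F, g.det ≠ 0 → ∀ B ∈ S', gᴴ * B * g ∈ S') →
      ∀ A ∈ S', Aᴴ = A → A ≠ 0 → q ^ (2 * (n + 1)) - 1 ≤ (q + 1) * S'.card)
    (A : Matrix (Fin (n + 2)) (Fin (n + 2)) F) (hAS : A ∈ S) (hA : Aᴴ = A) (h0 : A ≠ 0) :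
    q ^ (2 * (n + 2)) - 1 ≤ (q + 1) * S.card := by
  classical
  have hcard : Fintype.card (Fin (n + 1) → F) = q ^ (2 * (n + 1)) := by
    rw [Fintype.card_fun, Fintype.card_fin, hC.card, ← pow_mul]
  -- the matrices with nonzero corner
  let Cs : Finset F := Finset.univ.filter fun c => c ≠ 0 ∧ star c = c
  have hCs : q - 1 ≤ Cs.card := by
    have h := hC.fixed_le (insert 0 Cs) fun c hc => by
      by_cases h : c = 0 <;> simp [Cs, h, hc]
    have := Finset.card_insert_le (0 : F) Cs
    omega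
  obtain ⟨a, ha⟩ := exists_anisotropic hC hA h0
  have h1 : Cs.card * q ^ (2 * (n + 1)) ≤ (S.filter fun B => B 0 0 ≠ 0).card := by
    have hex : ∀ p : Cs × (Fin (n + 1) → F), ∃ B ∈ S, B 0 0 = p.1 ∧ ∀ j : Fin (n + 1), B 0 j.succ = p.2 j := by
      rintro ⟨⟨c, hc⟩, r⟩
      obtain ⟨hc0, hcs⟩ := (Finset.mem_filter.1 hc).2
      obtain ⟨x, hx⟩ := hC.norm (c / (star a ⬝ᵥ A *ᵥ a)) (by rw [star_div₀, hcs, sesq_swap hA])
      have hval : star (x • a) ⬝ᵥ A *ᵥ (x • a) = c := by rw [sesq_smul, hx, div_mul_cancel₀ _ ha]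
      obtain ⟨g, hg, hgv⟩ := exists_sl_col (v := x • a) fun e => hc0 (by rw [← hval, e]; simp)
      set B := gᴴ * A * g with hB
      have hB00 : B 0 0 = c := by rw [hB, congr_apply_star, hgv, hval]
      let η : Fin (n + 2) → F := Fin.cons 0 fun j => (r j - B 0 j.succ) / c
      have hη : (η ⬝ᵥ Pi.single 0 1 : F) = 0 := by simp [η]
      refine ⟨(1 + vecMulVec (Pi.single 0 1) η)ᴴ * B * (1 + vecMulVec (Pi.single 0 1) η), hS _ ?_ _ (hS _ hg _ hAS),
        ?_, fun j => ?_⟩
      · rw [vecMulVec_eq (ι := Unit), det_one_add_replicateCol_mul_replicateRow, hη, add_zero]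
      · rw [congr_apply_star, add_mulVec, one_mulVec, vecMulVec_mulVec, hη]
        simp [hB00]
      · rw [congr_apply_star, add_mulVec, one_mulVec, vecMulVec_mulVec, hη, add_mulVec, one_mulVec, vecMulVec_mulVec,
          op_smul_eq_smul, op_smul_eq_smul, zero_smul, add_zero, mulVec_add, mulVec_smul, dotProduct_add,
          dotProduct_smul]
        simp [η, hB00, div_mul_cancel₀ _ hc0]
    choose B hB hB1 hB2 using hex
    have h := Finset.card_le_card_of_injOn (s := (Finset.univ : Finset (Cs × (Fin (n + 1) → F))))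
      (t := S.filter fun B => B 0 0 ≠ 0) B
      (fun p _ => Finset.mem_filter.2 ⟨hB p, by rw [hB1]; exact (Finset.mem_filter.1 p.1.2).2.1⟩)
      (fun p _ p' _ e => Prod.ext (Subtype.ext (by rw [← hB1 p, ← hB1 p', e]))
        (funext fun j => by rw [← hB2 p j, ← hB2 p' j, e]))
    simpa [hcard] using h
  -- the matrices with zero corner
  have h2 : q ^ (2 * (n + 1)) - 1 ≤ (q + 1) * (S.filter fun B => ¬ B 0 0 ≠ 0).card := by
    obtain ⟨z, hz0, hz⟩ := exists_isotropic hC (by omega) hA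
    obtain ⟨g, hg, hgv⟩ := exists_sl_col hz0
    set B := gᴴ * A * g with hB
    have hBH : Bᴴ = B := by
      rw [hB, conjTranspose_mul, conjTranspose_mul, conjTranspose_conjTranspose, hA, Matrix.mul_assoc]
    have hB00 : B 0 0 = 0 := by rw [hB, congr_apply_star, hgv, hz]
    have hBS : B ∈ S := hS g hg A hAS
    by_cases hr : ∀ j : Fin (n + 1), B 0 j.succ = 0
    · -- a radical vector
      let B' : Matrix (Fin (n + 1)) (Fin (n + 1)) F := B.submatrix Fin.succ Fin.succ
      have hpad : pad B' = B := by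
        ext i j
        refine Fin.cases ?_ (fun i => ?_) i <;> refine Fin.cases ?_ (fun j => ?_) j <;> simp [pad, B', hr, hB00]
        rw [← hBH, conjTranspose_apply, hr, star_zero]
      let S' : Finset (Matrix (Fin (n + 1)) (Fin (n + 1)) F) := Finset.univ.filter fun C => pad C ∈ S
      have hS' : ∀ g' : Matrix (Fin (n + 1)) (Fin (n + 1)) F, g'.det ≠ 0 → ∀ C ∈ S', g'ᴴ * C * g' ∈ S' := by
        intro g' hg' C hC'
        simp only [S', Finset.mem_filter, Finset.mem_univ, true_and] at hC' ⊢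
        rw [← congr_pad g'.det⁻¹]
        exact hS _ (by rw [det_bord, inv_mul_cancel₀ hg']) _ hC'
      have hB'0 : B' ≠ 0 := fun e => h0 (by
        have hu : IsUnit g.det := by rw [hg]; exact isUnit_one
        have hu' : IsUnit gᴴ.det := by rw [det_conjTranspose, hg, star_one]; exact isUnit_one
        have e0 : B = 0 := by
          rw [← hpad, e]; ext i j
          refine Fin.cases ?_ (fun i => ?_) i <;> refine Fin.cases ?_ (fun j => ?_) j <;> simp [pad]
        have e' := congrArg (fun X => gᴴ⁻¹ * X * g⁻¹) e0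
        simpa [hB, Matrix.mul_assoc, Matrix.mul_nonsing_inv g hu, Matrix.nonsing_inv_mul_cancel_left gᴴ _ hu'] using e')
      refine (ih S' hS' B' (by simpa [S', hpad] using hBS) (by rw [conjTranspose_submatrix, hBH]) hB'0).trans ?_
      refine Nat.mul_le_mul_left _ (Finset.card_le_card_of_injOn pad (fun C hC' => ?_) fun C _ C' _ e =>
        Matrix.ext fun i j => ?_)
      · simp only [S', Finset.mem_filter, Finset.mem_univ, true_and, Finset.mem_coe] at hC'
        exact Finset.mem_filter.2 ⟨hC', by simp [pad]⟩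
      · simpa [pad] using congrFun (congrFun e i.succ) j.succ
    -- shears
    push Not at hr
    obtain ⟨k₀, hk₀⟩ := hr
    set r : Fin (n + 1) → F := fun j => B 0 j.succ with hr'
    let M : (Fin (n + 1) → F) → Matrix (Fin (n + 2)) (Fin (n + 2)) F := fun η =>
      (1 + vecMulVec (Pi.single 0 1) (Fin.cons 0 η))ᴴ * B * (1 + vecMulVec (Pi.single 0 1) (Fin.cons 0 η))
    have hcol : ∀ (η : Fin (n + 1) → F) (j : Fin (n + 1)),
        (1 + vecMulVec (Pi.single 0 1) (Fin.cons 0 η)) *ᵥ Pi.single j.succ (1 : F) =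
          Pi.single j.succ 1 + η j • Pi.single 0 1 := fun η j => by
      rw [add_mulVec, one_mulVec, vecMulVec_mulVec, op_smul_eq_smul, dotProduct_single, mul_one, Fin.cons_succ]
    have hMjk : ∀ η j k, M η j.succ k.succ =
        B j.succ k.succ + star (r j) * η k + star (η j) * r k := fun η j k => by
      simp only [M]
      rw [congr_apply_star, hcol, hcol]
      simp only [star_add, star_smul, add_dotProduct, smul_dotProduct, mulVec_add, mulVec_smul, dotProduct_add,
        dotProduct_smul, mulVec_single_one, smul_eq_mul]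
      rw [show star (r j) = B j.succ 0 by rw [← conjTranspose_apply, hBH]]
      simp [hr', Matrix.col, hB00]
      ring
    have hMmem : ∀ η, M η ∈ S.filter fun B => ¬ B 0 0 ≠ 0 := fun η => by
      refine Finset.mem_filter.2 ⟨hS _ ?_ _ hBS, ?_⟩
      · rw [vecMulVec_eq (ι := Unit), det_one_add_replicateCol_mul_replicateRow]
        simp
      · simp only [M, not_not]
        rw [congr_apply_star, add_mulVec, one_mulVec, vecMulVec_mulVec]
        simp [hB00]
    have hfib := Finset.card_le_mul_card_image (Finset.univ : Finset (Fin (n + 1) → F)) (f := M) q fun C hC' => by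
      obtain ⟨η₀, -, rfl⟩ := Finset.mem_image.1 hC'
      refine le_trans (Finset.card_le_card (t := (Finset.univ.filter fun c : F => c + star c = 0).image
        fun c => η₀ + c • r) fun η hη => ?_) (Finset.card_image_le.trans (hC.trzero_le _ fun c hc => by simpa using hc))
      rw [Finset.mem_filter] at hη
      have hd : ∀ j k, star (r j) * (η k - η₀ k) + star (η j - η₀ j) * r k = 0 := fun j k => by
        have e := congrFun (congrFun hη.2 j.succ) k.succ
        rw [hMjk, hMjk] at e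
        rw [star_sub]
        linear_combination e
      have hk₀' : r k₀ ≠ 0 := hk₀
      set c : F := (η k₀ - η₀ k₀) / r k₀ with hc
      have hck : η k₀ - η₀ k₀ = c * r k₀ := (div_mul_cancel₀ _ hk₀').symm
      refine Finset.mem_image.2 ⟨c, Finset.mem_filter.2 ⟨Finset.mem_univ _, ?_⟩, funext fun k => ?_⟩
      · have e := hd k₀ k₀
        rw [hck, star_mul'] at e
        have : (c + star c) * (star (r k₀) * r k₀) = 0 := by linear_combination e
        exact (mul_eq_zero.1 this).resolve_right (mul_ne_zero (star_ne_zero.2 hk₀') hk₀')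
      · have e := hd k₀ k
        have e' := hd k₀ k₀
        rw [hck] at e e'
        rw [star_mul'] at e e'
        have : star (r k₀) * ((η k - η₀ k) - c * r k) = 0 := by
          have h3 : (c + star c) * (star (r k₀) * r k₀) = 0 := by linear_combination e'
          have h4 := (mul_eq_zero.1 h3).resolve_right (mul_ne_zero (star_ne_zero.2 hk₀') hk₀')
          linear_combination e - (star (r k₀) * r k) * h4
        have h5 := (mul_eq_zero.1 this).resolve_left (star_ne_zero.2 hk₀')
        simp only [Pi.add_apply, Pi.smul_apply, smul_eq_mul]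
        linear_combination -h5
    rw [Finset.card_univ, hcard] at hfib
    have h3 : (Finset.univ.image M).card ≤ (S.filter fun B => ¬ B 0 0 ≠ 0).card :=
      Finset.card_le_card fun C hC' => by
        obtain ⟨η, -, rfl⟩ := Finset.mem_image.1 hC'
        exact hMmem η
    calc q ^ (2 * (n + 1)) - 1 ≤ q ^ (2 * (n + 1)) := Nat.sub_le _ _
      _ ≤ q * (Finset.univ.image M).card := hfib
      _ ≤ _ := Nat.mul_le_mul (by omega) h3
  have hsplit : (S.filter fun B => B 0 0 ≠ 0).card + (S.filter fun B => ¬ B 0 0 ≠ 0).card = S.card :=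
    Finset.card_filter_add_card_filter_not _
  have h4 := (Nat.mul_le_mul_left (q + 1) ((Nat.mul_le_mul_right (q ^ (2 * (n + 1))) hCs).trans h1))
  have hp : 1 ≤ q ^ (2 * (n + 1)) := Nat.one_le_pow _ _ (by have := hC.two_le; omega)
  have e : q ^ (2 * (n + 2)) = (q + 1) * ((q - 1) * q ^ (2 * (n + 1))) + q ^ (2 * (n + 1)) := by
    obtain ⟨k, rfl⟩ : ∃ k, q = k + 1 := ⟨q - 1, by have := hC.two_le; omega⟩
    rw [show 2 * (n + 2) = 2 * (n + 1) + 2 by ring, Nat.add_sub_cancel, pow_add]
    ring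
  rw [e, ← hsplit, Nat.mul_add (q + 1) (Finset.card _), Nat.add_sub_assoc hp]
  exact Nat.add_le_add h4 h2

/-- Congruence classes of nonzero Hermitian matrices are large. -/
theorem orbit_card_gl (hC : Conj F q) : ∀ (m : ℕ) (S : Finset (Matrix (Fin m) (Fin m) F)),
    (∀ g : Matrix (Fin m) (Fin m) F, g.det ≠ 0 → ∀ B ∈ S, gᴴ * B * g ∈ S) →
    ∀ A ∈ S, Aᴴ = A → A ≠ 0 → q ^ (2 * m) - 1 ≤ (q + 1) * S.card
  | 0, _, _, _, _, _, _ => by simp
  | 1, S, hS, A, hAS, hA, h0 => by
    classical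
    let Cs : Finset F := Finset.univ.filter fun c => c ≠ 0 ∧ star c = c
    have hCs : q - 1 ≤ Cs.card := by
      have h := hC.fixed_le (insert 0 Cs) fun c hc => by
        by_cases h : c = 0 <;> simp [Cs, h, hc]
      have := Finset.card_insert_le (0 : F) Cs
      omega
    have ha : A 0 0 ≠ 0 := fun e => h0 (by ext i j; rw [Subsingleton.elim i 0, Subsingleton.elim j 0]; simpa using e)
    have hAs : star (A 0 0) = A 0 0 := by rw [← conjTranspose_apply, hA]
    have hsub : Cs ⊆ S.image fun B => B 0 0 := fun c hc => by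
      obtain ⟨hc0, hcs⟩ := (Finset.mem_filter.1 hc).2
      obtain ⟨x, hx⟩ := hC.norm (c / A 0 0) (by rw [star_div₀, hcs, hAs])
      have hx0 : x ≠ 0 := fun e => div_ne_zero hc0 ha (by rw [← hx, e]; simp)
      refine Finset.mem_image.2 ⟨_, hS (x • 1) ?_ A hAS, ?_⟩
      · simp [hx0]
      · simp [conjTranspose_smul]
        rw [← mul_assoc, mul_comm x, hx, div_mul_cancel₀ _ ha]
    have h := (hCs.trans (Finset.card_le_card hsub)).trans Finset.card_image_le
    calc q ^ (2 * 1) - 1 = (q + 1) * (q - 1) := by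
          rw [mul_one, sq, ← Nat.mul_self_sub_mul_self_eq, mul_one]
      _ ≤ _ := Nat.mul_le_mul_left _ h
  | n + 2, S, hS, A, hAS, hA, h0 =>
    step hC S (fun g hg => hS g (by rw [hg]; exact one_ne_zero)) (fun S' => orbit_card_gl hC (n + 1) S') A hAS hA h0

/-- The same under unimodular congruences, in size at least two. -/
theorem orbit_card_sl (hC : Conj F q) (m : ℕ) (hm : 2 ≤ m) (S : Finset (Matrix (Fin m) (Fin m) F))
    (hS : ∀ g : Matrix (Fin m) (Fin m) F, g.det = 1 → ∀ B ∈ S, gᴴ * B * g ∈ S)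
    (A : Matrix (Fin m) (Fin m) F) (hAS : A ∈ S) (hA : Aᴴ = A) (h0 : A ≠ 0) :
    q ^ (2 * m) - 1 ≤ (q + 1) * S.card := by
  obtain ⟨n, rfl⟩ : ∃ n, m = n + 2 := ⟨m - 2, by omega⟩
  exact step hC S hS (fun S' => orbit_card_gl hC (n + 1) S') A hAS hA h0

theorem conj_of_uctx [DecidableEq F] (C : UCtx F q) (hs : ∀ x : F, star x = C.bar x)
    (hF : Fintype.card F = q ^ 2) : Conj F q where
  two_le := by
    have h := Fintype.one_lt_card (α := F)
    rw [hF] at h
    by_contra hh
    push Not at hh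
    have := Nat.pow_le_pow_left (show q ≤ 1 by omega) 2
    omega
  card := hF
  norm c hc := by
    rw [hs] at hc
    obtain ⟨x, hx⟩ := C.exists_norm hc
    exact ⟨x, by rw [hs, mul_comm, hx]⟩
  trace c hc := by
    rw [hs] at hc
    obtain ⟨x, hx⟩ := C.exists_trace hc
    exact ⟨x, by rw [hs, hx]⟩
  nonfixed := by
    obtain ⟨y, hy⟩ := C.exists_not_fixed
    exact ⟨y, by rwa [hs]⟩
  fixed_le s hmem := by
    have h := CfsgLib.Descent.card_fixedField_pow C.bar
    rw [C.order_two, hF] at h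
    have hcard : Nat.card (CfsgLib.Descent.fixedField C.bar) = q := Nat.pow_left_injective (by norm_num) h
    rw [← hcard, ← Nat.card_eq_finsetCard s]
    refine Nat.card_le_card_of_injective (fun x => ⟨x.1, hmem _ (by rw [hs]; exact x.2)⟩) fun x y e => ?_
    exact Subtype.ext (congrArg (fun t : { x // x ∈ s } => (t : F)) e)
  trzero_le s hmem := by
    obtain ⟨δ, hδ0, hδ⟩ := C.exists_trace_zero
    have h := CfsgLib.Descent.card_fixedField_pow C.bar
    rw [C.order_two, hF] at h
    have hcard : Nat.card (CfsgLib.Descent.fixedField C.bar) = q := Nat.pow_left_injective (by norm_num) h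
    rw [← hcard, ← Nat.card_eq_finsetCard s]
    refine Nat.card_le_card_of_injective (fun x => ⟨x.1 / δ, ?_⟩) fun x y e => ?_
    · have hx := hmem x.1 x.2
      rw [hs] at hx
      show C.bar (x.1 / δ) = x.1 / δ
      rw [map_div₀, eq_neg_of_add_eq_zero_right hx, eq_neg_of_add_eq_zero_right hδ, neg_div_neg_eq]
    · exact Subtype.ext (by simpa [div_left_inj' hδ0] using congrArg Subtype.val e)

end CfsgLib.Classical.WeilSU
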