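/-
Lower bounds for the degrees of the nontrivial representations of special unitary groups.
-/
import Cfsg.Agent.Lib.Classical.WeilSU.HermOrbit
import Cfsg.Agent.Lib.Classical.WeilSU.Frame
import Cfsg.Agent.Lib.LinDeg.Spectral

set_option autoImplicit false

namespace CfsgLib.Classical.WeilSU

open Matrix Module CfsgLib.SU
open scoped commutatorElement

theorem eq_top_of_normal {G : Type*} [Group G] [IsSimpleGroup (G ⧸ Subgroup.center G)]
    (hperf : commutator G = ⊤) {N : Subgroup G} [N.Normal] {x : G} (hx : x ∈ N) (hxc : x ∉ Subgroup.center G) :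
    N = ⊤ := by
  set π := QuotientGroup.mk' (Subgroup.center G) with hπ
  have hNn : (N.map π).Normal := (inferInstance : N.Normal).map π (QuotientGroup.mk'_surjective _)
  have htop : N.map π = ⊤ := by
    refine (hNn.eq_bot_or_eq_top).resolve_left fun h => hxc ?_
    have hm : π x ∈ N.map π := Subgroup.mem_map_of_mem π hx
    rw [h, Subgroup.mem_bot] at hm
    exact (QuotientGroup.eq_one_iff x).1 hm
  have hab : commutator (G ⧸ N) = ⊥ := by
    rw [eq_bot_iff, commutator_def, Subgroup.commutator_le]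
    intro a _ b _
    obtain ⟨a, rfl⟩ := QuotientGroup.mk'_surjective N a
    obtain ⟨b, rfl⟩ := QuotientGroup.mk'_surjective N b
    obtain ⟨m, hm, hmz⟩ := (htop.symm ▸ Subgroup.mem_top _ : π a ∈ N.map π)
    have hz : m⁻¹ * a ∈ Subgroup.center G := QuotientGroup.eq.1 hmz
    rw [Subgroup.mem_bot, commutatorElement_eq_one_iff_mul_comm]
    have ha : QuotientGroup.mk' N a = QuotientGroup.mk' N (m⁻¹ * a) := by
      rw [map_mul, map_inv, show QuotientGroup.mk' N m = 1 from (QuotientGroup.eq_one_iff m).2 hm, inv_one, one_mul]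
    rw [ha, ← map_mul, ← map_mul, Subgroup.mem_center_iff.1 hz b]
  have hmap := Subgroup.map_commutator ⊤ ⊤ (QuotientGroup.mk' N)
  rw [← commutator_def, hperf, Subgroup.map_top_of_surjective _ (QuotientGroup.mk'_surjective _), ← commutator_def,
    hab] at hmap
  rw [eq_top_iff]
  intro g _
  rw [← QuotientGroup.eq_one_iff, ← Subgroup.mem_bot, ← hmap]
  exact Subgroup.mem_top _

variable {F : Type*} [Field F] [StarRing F] [Fintype F] {q n m r : ℕ}

/-- Square matrices from flattened vectors. -/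
def mat (v : Fin (m * m) → F) : Matrix (Fin m) (Fin m) F := Matrix.of fun i j => v (finProdFinEquiv (i, j))

/-- Flattened vectors from square matrices. -/
def unmat (M : Matrix (Fin m) (Fin m) F) : Fin (m * m) → F :=
  fun k => M (finProdFinEquiv.symm k).1 (finProdFinEquiv.symm k).2

omit [StarRing F] [Fintype F] in
theorem mat_unmat (M : Matrix (Fin m) (Fin m) F) : mat (unmat M) = M := by
  ext i j; simp [mat, unmat]

omit [StarRing F] [Fintype F] in
theorem unmat_mat (v : Fin (m * m) → F) : unmat (mat v) = v := by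
  funext k
  show v (finProdFinEquiv ((finProdFinEquiv.symm k).1, (finProdFinEquiv.symm k).2)) = v k
  rw [Prod.mk.eta, Equiv.apply_symm_apply]

omit [StarRing F] [Fintype F] in
theorem dot_eq_trace (v w : Fin (m * m) → F) : v ⬝ᵥ w = ((mat v)ᵀ * mat w).trace := by
  simp only [Matrix.trace, Matrix.diag_apply, Matrix.mul_apply, transpose_apply, mat, of_apply, dotProduct]
  rw [← finProdFinEquiv.sum_comp, Fintype.sum_prod_type, Finset.sum_comm]

theorem exists_invariant_char (hC : Conj F q) :
    ∃ ψ : AddChar F ℂ, ψ.IsPrimitive ∧ ∀ x, ψ (star x) = ψ x := by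
  obtain ⟨ψ₀, hψ₀⟩ := CfsgLib.LinDeg.exists_primitiveChar F ℂ (by
    rw [ringChar.eq_zero]
    exact fun h => CharP.ringChar_ne_zero_of_finite F h.symm)
  obtain ⟨x₁, hx₁⟩ := hC.trace 1 (star_one F)
  obtain ⟨c, hc⟩ : ∃ c, ψ₀ c ≠ 1 := by
    by_contra h
    push Not at h
    exact hψ₀ (one_ne_zero (α := F)) (DFunLike.ext _ _ fun x => by simpa using h x)
  refine ⟨ψ₀.compAddMonoidHom
    { toFun := fun x => c * (x + star x), map_zero' := by simp, map_add' := fun a b => by simp; ring },
    AddChar.IsPrimitive.of_ne_one fun h => hc ?_, fun x => ?_⟩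
  · have := DFunLike.congr_fun h x₁
    simpa [hx₁] using this
  · simp [add_comm]

/-- The representation of the centre of the unipotent radical. -/
noncomputable def tau (fr : Frame F q n m r) {V : Type*} [AddCommGroup V] [Module ℂ V]
    (ρ : Representation ℂ ↥(Cfsg.SU n F q) V) (v : Fin (m * m) → F) : Module.End ℂ V :=
  ρ (fr.yel 0 (mat v - (mat v)ᴴ) (by simp))

theorem tau_add (fr : Frame F q n m r) {V : Type*} [AddCommGroup V] [Module ℂ V]
    (ρ : Representation ℂ ↥(Cfsg.SU n F q) V) (a b : Fin (m * m) → F) :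
    tau fr ρ (a + b) = tau fr ρ a * tau fr ρ b := by
  rw [tau, tau, tau, ← map_mul]
  congr 1
  refine Subtype.ext (Subtype.ext ?_)
  show fr.toMat _ = fr.toMat _ * fr.toMat _
  rw [← fr.toMat_mul, yMat_mul]
  congr 2
  · simp
  · rw [show mat (a + b) = mat a + mat b from rfl]; simp; abel

theorem tau_zero (fr : Frame F q n m r) {V : Type*} [AddCommGroup V] [Module ℂ V]
    (ρ : Representation ℂ ↥(Cfsg.SU n F q) V) : tau fr ρ 0 = 1 := by
  rw [tau, show fr.yel 0 (mat 0 - (mat 0)ᴴ) (by simp) = 1 from Subtype.ext (Subtype.ext ?_), map_one]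
  show fr.toMat (yMat 0 (mat 0 - (mat 0)ᴴ)) = 1
  rw [show (mat (0 : Fin (m * m) → F)) = 0 from rfl, conjTranspose_zero, sub_zero, yMat, conjTranspose_zero, neg_zero,
    blk3_one, Frame.toMat, Matrix.mul_one, fr.base_inv, submatrix_one_equiv]

variable {V : Type*} [AddCommGroup V] [Module ℂ V] [FiniteDimensional ℂ V]

/-- Occurring characters: closed under congruence, skew-Hermitian, not all trivial. -/
theorem exists_chars [IsSimpleGroup (Cfsg.PSU n F q)] (hperf : commutator ↥(Cfsg.SU n F q) = ⊤)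
    (hC : Conj F q) (fr : Frame F q n m r) (hr : r = 1 ∨ 2 ≤ m ∧ r = 0) (hm : 1 ≤ m)
    (ψ : AddChar F ℂ) (hψ : ψ.IsPrimitive) (hinv : ∀ x, ψ (star x) = ψ x)
    (ρ : Representation ℂ ↥(Cfsg.SU n F q) V) (hne : ∃ x, ρ x ≠ 1) :
    ∃ T : Finset (Matrix (Fin m) (Fin m) F), q ^ (2 * m) - 1 ≤ (q + 1) * T.card ∧ ∀ B ∈ T,
      B ≠ 0 ∧ Bᴴ = -B ∧ CfsgLib.LinDeg.eigProj ψ (tau fr ρ) (unmat B) ≠ 0 := by
  classical
  set τ := tau fr ρ with hτ
  have h0 := tau_zero fr ρ
  have hadd := tau_add fr ρ
  have hK := CfsgLib.LinDeg.card_ne_zero F ℂ (by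
    rw [ringChar.eq_zero]
    exact fun h => CharP.ringChar_ne_zero_of_finite F h.symm)
  set E := CfsgLib.LinDeg.eigProj ψ τ with hE
  obtain ⟨y, hy⟩ := hC.nonfixed
  set δ := y - star y with hδ
  have hδ0 : δ ≠ 0 := sub_ne_zero.2 (Ne.symm hy)
  have hδs : star δ = -δ := by rw [hδ, star_sub, star_star, neg_sub]
  -- some element of the radical is moved
  obtain ⟨v₀, hv₀⟩ : ∃ v, τ v ≠ 1 := by
    by_contra hall
    push Not at hall
    obtain ⟨x, hx⟩ := hne
    have i₀ : Fin m := ⟨0, by omega⟩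
    set M : Matrix (Fin m) (Fin m) F := Matrix.single i₀ i₀ y with hM
    have hS : (M - Mᴴ) * (M - Mᴴ) ≠ 0 := fun e => by
      have e' := congrFun (congrFun e i₀) i₀
      have hd : M - Mᴴ = Matrix.single i₀ i₀ δ := by
        rw [hM, conjTranspose_single]
        ext a b
        simp only [hδ, Matrix.sub_apply, Matrix.single_apply]
        split <;> simp
      rw [hd, Matrix.single_mul_single_same] at e'
      simp [hδ0] at e'
    have hh : (M - Mᴴ) + (M - Mᴴ)ᴴ + (0 : Matrix (Fin m) (Fin r) F) * (0 : Matrix (Fin m) (Fin r) F)ᴴ = 0 := by simp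
    have hmem : fr.yel 0 (M - Mᴴ) hh ∈ MonoidHom.ker ρ := by
      have := hall (unmat M)
      rw [hτ, tau] at this
      simp only [mat_unmat] at this
      exact this
    haveI : IsSimpleGroup (↥(Cfsg.SU n F q) ⧸ Subgroup.center ↥(Cfsg.SU n F q)) := ‹_›
    have htop := eq_top_of_normal hperf hmem (fr.yel_not_central hh hS)
    exact hx (MonoidHom.mem_ker.1 (htop ▸ Subgroup.mem_top x))
  -- the occurring characters
  let T : Finset (Matrix (Fin m) (Fin m) F) := Finset.univ.filter fun B => B ≠ 0 ∧ E (unmat B) ≠ 0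
  have hskew : ∀ B ∈ T, Bᴴ = -B := by
    intro B hB
    have hB' := (Finset.mem_filter.1 hB).2.2
    refine Matrix.ext fun i j => ?_
    rw [conjTranspose_apply, Matrix.neg_apply, eq_neg_iff_add_eq_zero]
    by_contra hne'
    apply hψ hne'
    ext a
    have h1 := CfsgLib.LinDeg.mul_eigProj ψ τ hadd (unmat (Matrix.single i j a)) (unmat B)
    have h2 := CfsgLib.LinDeg.mul_eigProj ψ τ hadd (unmat (-(Matrix.single i j a)ᴴ)) (unmat B)
    have htr : τ (unmat (-(Matrix.single i j a)ᴴ)) = τ (unmat (Matrix.single i j a)) := by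
      simp only [hτ, tau, mat_unmat]
      congr 1
      refine fr.toSU_congr ?_
      congr 1
      rw [conjTranspose_neg, conjTranspose_conjTranspose]
      abel
    rw [htr, h1] at h2
    have h3 : ψ (unmat (Matrix.single i j a) ⬝ᵥ unmat B) = ψ (unmat (-(Matrix.single i j a)ᴴ) ⬝ᵥ unmat B) :=
      smul_left_injective ℂ hB' h2
    simp only [dot_eq_trace, mat_unmat] at h3
    simp [conjTranspose_single, transpose_single, Matrix.trace_single_mul] at h3
    show ψ ((star (B j i) + B i j) * a) = (1 : AddChar F ℂ) a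
    rw [AddChar.one_apply, add_mul, AddChar.map_add_eq_mul, mul_comm (B i j) a, h3,
      ← hinv (star (B j i) * a), star_mul', star_star, ← AddChar.map_add_eq_mul, ← AddChar.map_zero_eq_one ψ]
    congr 1
    ring
  -- closure
  have hT : ∀ (g : Matrix (Fin m) (Fin m) F) (d : F), g.det ≠ 0 → star d * d = 1 → g.det * d ^ r = star g.det →
      ∀ B ∈ T, gᵀ * B * (gᴴ)ᵀ ∈ T := by
    intro g d hg hd hdet B hB
    simp only [T, Finset.mem_filter, Finset.mem_univ, true_and] at hB ⊢
    have hu : IsUnit (gᵀ).det := by rw [det_transpose]; exact isUnit_iff_ne_zero.2 hg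
    have hu' : IsUnit ((gᴴ)ᵀ).det := by
      rw [det_transpose, det_conjTranspose]; exact isUnit_iff_ne_zero.2 (star_ne_zero.2 hg)
    have hu'' : IsUnit g.det := isUnit_iff_ne_zero.2 hg
    have hu3 : IsUnit (gᴴ).det := by rwa [det_transpose] at hu'
    refine ⟨fun e => hB.1 ?_, fun e => hB.2 ?_⟩
    · have e' := congrArg (fun X => gᵀ⁻¹ * X * ((gᴴ)ᵀ)⁻¹) e
      simpa [Matrix.mul_assoc, Matrix.mul_nonsing_inv _ hu', Matrix.nonsing_inv_mul_cancel_left gᵀ _ hu] using e'
    · let f : (Fin (m * m) → F) → (Fin (m * m) → F) := fun v => unmat (g * mat v * gᴴ)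
      have hf : Function.Bijective f := by
        refine Finite.injective_iff_bijective.1 fun a b hab => ?_
        have := congrArg mat hab
        simp only [f, mat_unmat] at this
        have h' := congrArg (fun X => g⁻¹ * X * (gᴴ)⁻¹) this
        simp only [Matrix.mul_assoc, Matrix.mul_nonsing_inv _ hu3, Matrix.mul_one,
          Matrix.nonsing_inv_mul_cancel_left g _ hu''] at h'
        rw [← unmat_mat a, ← unmat_mat b, h']
      have hc : ρ (fr.levi g d hg hd hdet) * E (unmat (gᵀ * B * (gᴴ)ᵀ)) = E (unmat B) * ρ (fr.levi g d hg hd hdet) := by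
        refine CfsgLib.LinDeg.mul_eigProj_of_conj ψ τ hf (fun v => ?_) fun v => ?_
        · simp only [hτ, tau]
          rw [← map_mul, ← map_mul]
          congr 1
          refine fr.levi_mul_yel hg hd hdet _ _ ?_
          simp only [f, mat_unmat]
          rw [conjTranspose_mul, conjTranspose_mul, conjTranspose_conjTranspose, ← Matrix.mul_assoc g (mat v)ᴴ,
            ← sub_mul, ← mul_sub]
        · rw [dot_eq_trace, dot_eq_trace, mat_unmat, mat_unmat]
          simp only [f, mat_unmat]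
          rw [transpose_mul, transpose_mul, Matrix.mul_assoc (gᴴ)ᵀ, Matrix.trace_mul_comm (gᴴ)ᵀ]
          simp only [Matrix.mul_assoc]
      rw [e, mul_zero] at hc
      exact (((Group.isUnit (fr.levi g d hg hd hdet)).map ρ).mul_left_eq_zero).1 hc.symm
  obtain ⟨B₀, hB₀⟩ : ∃ B, B ∈ T := by
    by_contra h
    push Not at h
    simp only [T, Finset.mem_filter, Finset.mem_univ, true_and, not_and, not_not] at h
    have hz : ∀ w, w ≠ 0 → E w = 0 := fun w hw => by
      have := h (mat w) fun e => hw (by rw [← unmat_mat w, e]; rfl)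
      rwa [unmat_mat] at this
    apply hv₀
    rw [CfsgLib.LinDeg.eq_sum_eigProj ψ hψ τ h0 hadd hK v₀, Finset.sum_eq_single 0]
    · have hs := CfsgLib.LinDeg.sum_eigProj ψ hψ τ h0 hK
      rw [Finset.sum_eq_single 0] at hs
      · rw [dotProduct_zero, AddChar.map_zero_eq_one, one_smul, hs]
      · exact fun w _ hw => hz w hw
      · simp
    · intro w _ hw; rw [← hE, hz w hw, smul_zero]
    · simp
  refine ⟨T, ?_, fun B hB => ⟨(Finset.mem_filter.1 hB).2.1, hskew B hB, (Finset.mem_filter.1 hB).2.2⟩⟩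
  let S : Finset (Matrix (Fin m) (Fin m) F) := T.image fun B => δ • B
  have hScard : S.card = T.card := Finset.card_image_of_injective _ (smul_right_injective _ hδ0)
  have hS : ∀ h : Matrix (Fin m) (Fin m) F, h.det ≠ 0 → (r = 0 → h.det = 1) → ∀ A ∈ S, hᴴ * A * h ∈ S := by
    intro h hh hh1 A hA
    obtain ⟨B, hB, rfl⟩ := Finset.mem_image.1 hA
    set g : Matrix (Fin m) (Fin m) F := (hᴴ)ᵀ with hg
    have hgdet : g.det = star h.det := by rw [hg, det_transpose, det_conjTranspose]
    have hgdet0 : g.det ≠ 0 := by rw [hgdet]; exact star_ne_zero.2 hh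
    have hmem := hT g (star g.det / g.det) hgdet0 (by
      rw [star_div₀, star_star]; field_simp [star_ne_zero.2 hgdet0]) (by
      rcases hr with rfl | ⟨_, rfl⟩
      · rw [pow_one, mul_div_cancel₀ _ hgdet0]
      · rw [pow_zero, mul_one, hgdet, hh1 rfl, star_one, star_one]) B hB
    refine Finset.mem_image.2 ⟨_, hmem, ?_⟩
    have e1 : gᵀ = hᴴ := by rw [hg, transpose_transpose]
    have e2 : (gᴴ)ᵀ = h := by
      rw [hg]; ext i j; simp
    rw [e1, e2, Matrix.mul_smul, Matrix.smul_mul]
  have hHerm : (δ • B₀)ᴴ = δ • B₀ := by rw [conjTranspose_smul, hskew B₀ hB₀, hδs, neg_smul_neg]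
  have hB₀0 : δ • B₀ ≠ 0 := smul_ne_zero hδ0 (Finset.mem_filter.1 hB₀).2.1
  have hB₀S : δ • B₀ ∈ S := Finset.mem_image_of_mem _ hB₀
  rw [← hScard]
  rcases hr with rfl | ⟨hm2, rfl⟩
  · exact orbit_card_gl hC m S (fun g hg => hS g hg fun h => absurd h one_ne_zero) _ hB₀S hHerm hB₀0
  · exact orbit_card_sl hC m hm2 S (fun g hg => hS g (by rw [hg]; exact one_ne_zero) fun _ => hg) _ hB₀S hHerm hB₀0

set_option maxHeartbeats 1000000 in
/-- Eigenspaces of the centre carry a representation of a Heisenberg group when the dimension is odd. -/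
theorem le_finrank_range (hC : Conj F q) (fr : Frame F q n m 1)
    (ψ : AddChar F ℂ) (hψ : ψ.IsPrimitive) (ρ : Representation ℂ ↥(Cfsg.SU n F q) V)
    {B : Matrix (Fin m) (Fin m) F} (hB0 : B ≠ 0) (hBs : Bᴴ = -B)
    (hE : CfsgLib.LinDeg.eigProj ψ (tau fr ρ) (unmat B) ≠ 0) :
    q ≤ finrank ℂ (LinearMap.range (CfsgLib.LinDeg.eigProj ψ (tau fr ρ) (unmat B))) := by
  classical
  set E := CfsgLib.LinDeg.eigProj ψ (tau fr ρ) (unmat B) with hEd
  obtain ⟨y, hy⟩ := hC.nonfixed
  have hδ0 : y - star y ≠ 0 := sub_ne_zero.2 (Ne.symm hy)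
  have hH : ((y - star y) • B)ᴴ = (y - star y) • B := by
    rw [conjTranspose_smul, hBs, star_sub, star_star, ← neg_sub y (star y), neg_smul_neg]
  obtain ⟨a₀, ha₀⟩ := exists_anisotropic hC hH (smul_ne_zero hδ0 hB0)
  set u : Fin m → F := star a₀ with hu
  set β := u ⬝ᵥ B *ᵥ star u with hβ
  have hβ0 : β ≠ 0 := fun e => ha₀ (by
    rw [smul_mulVec, dotProduct_smul, show star a₀ ⬝ᵥ B *ᵥ a₀ = β by rw [hβ, hu, star_star], e, smul_zero])
  set P : Matrix (Fin m) (Fin m) F := vecMulVec u (star u) with hP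
  let col : F → Matrix (Fin m) (Fin 1) F := fun a => Matrix.of fun i _ => a * u i
  have hcol : ∀ a c, col a * (col c)ᴴ = (a * star c) • P := fun a c => by
    ext i j; simp [col, P, Matrix.mul_apply, vecMulVec]; ring
  have hPs : Pᴴ = P := by rw [hP, conjTranspose_vecMulVec, star_star]
  let sig : F → Matrix (Fin m) (Fin m) F := fun a => (fr.t * (a * star a)) • P
  have hsig : ∀ a, sig a + (sig a)ᴴ + col a * (col a)ᴴ = 0 := fun a => by
    simp only [sig, hcol, conjTranspose_smul, hPs, ← add_smul]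
    rw [show fr.t * (a * star a) + star (fr.t * (a * star a)) + a * star a = 0 by
      rw [star_mul', star_mul', star_star]; linear_combination (a * star a) * fr.ht, zero_smul]
  let R : F → Module.End ℂ V := fun a => ρ (fr.yel (col a) (sig a) (hsig a))
  -- the radical commutes with its centre
  have hRE : ∀ a, R a * E = E * R a := fun a => by
    refine CfsgLib.LinDeg.mul_eigProj_of_conj ψ _ Function.bijective_id (fun v => ?_) fun v => rfl
    simp only [R, tau, id, ← map_mul]
    congr 1
    refine fr.toSU_mul_eq.2 ?_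
    rw [yMat_mul, yMat_mul]
    simp
    congr 1
    abel
  have hcomm : ∀ c a, R c * (R a * E) = ψ (a * (star c * β)) • (R a * E * R c) := fun c a => by
    have h1 : R c * R a = tau fr ρ (unmat ((a * star c) • P)) * (R a * R c) := by
      simp only [R, tau, ← map_mul]
      congr 1
      refine Subtype.ext (Subtype.ext ?_)
      show fr.toMat _ * fr.toMat _ = fr.toMat _ * (fr.toMat _ * fr.toMat _)
      rw [← fr.toMat_mul, ← fr.toMat_mul, ← fr.toMat_mul, yMat_mul, yMat_mul, yMat_mul, mat_unmat]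
      congr 2
      · rw [zero_add, add_comm]
      · simp only [Matrix.zero_mul, sub_zero, hcol, conjTranspose_smul, hPs, star_mul', star_star]
        rw [mul_comm c (star a)]
        abel
    have h2 : tau fr ρ (unmat ((a * star c) • P)) * E = ψ (a * (star c * β)) • E := by
      rw [hEd, CfsgLib.LinDeg.mul_eigProj ψ _ (tau_add fr ρ), dot_eq_trace, mat_unmat, mat_unmat]
      congr 2
      rw [transpose_smul, Matrix.smul_mul, trace_smul, hP, transpose_vecMulVec, vecMulVec_mul, trace_vecMulVec,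
        dotProduct_comm, ← dotProduct_mulVec, ← hβ, smul_eq_mul, mul_assoc]
    calc R c * (R a * E) = tau fr ρ (unmat ((a * star c) • P)) * (R a * R c) * E := by
          rw [← h1, mul_assoc]
      _ = tau fr ρ (unmat ((a * star c) • P)) * (E * (R a * R c)) := by
          rw [mul_assoc, mul_assoc (R a), hRE c, ← mul_assoc (R a), hRE a, mul_assoc E]
      _ = ψ (a * (star c * β)) • (R a * E * R c) := by
          rw [← mul_assoc, h2, smul_mul_assoc, hRE a, mul_assoc]
  set W := LinearMap.range E with hW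
  have hmaps : ∀ a, ∀ x ∈ W, R a x ∈ W := by
    rintro a x ⟨z, rfl⟩
    exact ⟨R a z, (congrArg (fun f : Module.End ℂ V => f z) (hRE a)).symm⟩
  let R' : F → Module.End ℂ W := fun a => (R a).restrict (hmaps a)
  have hlin : LinearIndependent ℂ R' := by
    rw [Fintype.linearIndependent_iff]
    intro x hx a₁
    have hz : ∀ c : F, ∑ a, (x a * ψ (a * (star c * β))) • (R a * E) = 0 := by
      intro c
      have h1 : ∑ a, x a • (R a * E) = 0 := LinearMap.ext fun v => by
        have := congrArg (fun f : Module.End ℂ W => ((f ⟨E v, v, rfl⟩ : W) : V)) hx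
        simpa [R', LinearMap.sum_apply] using this
      have h2 : R c * ∑ a, x a • (R a * E) = (∑ a, (x a * ψ (a * (star c * β))) • (R a * E)) * R c := by
        rw [Finset.mul_sum, Finset.sum_mul]
        exact Finset.sum_congr rfl fun a _ => by rw [mul_smul_comm, hcomm, smul_smul, smul_mul_assoc]
      rw [h1, mul_zero] at h2
      exact (((Group.isUnit (fr.yel (col c) (sig c) (hsig c))).map ρ).mul_left_eq_zero).1 h2.symm
    have hsum : (0 : Module.End ℂ V) = ((Fintype.card F : ℂ) * x a₁) • (R a₁ * E) := by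
      calc (0 : Module.End ℂ V)
          = ∑ c : F, ψ (-(a₁ * (star c * β))) • ∑ a, (x a * ψ (a * (star c * β))) • (R a * E) := by simp [hz]
        _ = ∑ a, (x a * ∑ c : F, ψ (star c * ((a - a₁) * β))) • (R a * E) := by
          simp only [Finset.smul_sum, smul_smul, Finset.mul_sum, Finset.sum_smul]
          rw [Finset.sum_comm]
          refine Finset.sum_congr rfl fun a _ => Finset.sum_congr rfl fun c _ => ?_
          congr 1
          rw [show star c * ((a - a₁) * β) = -(a₁ * (star c * β)) + a * (star c * β) by ring,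
            AddChar.map_add_eq_mul]
          ring
        _ = ∑ a, (x a * if (a - a₁) * β = 0 then (Fintype.card F : ℂ) else 0) • (R a * E) := by
          refine Finset.sum_congr rfl fun a _ => ?_
          congr 2
          refine Eq.trans ?_ ((AddChar.sum_mulShift ((a - a₁) * β) hψ).trans (by split <;> simp))
          exact (Equiv.sum_comp (⟨star, star, star_star, star_star⟩ : F ≃ F) fun c => ψ (c * ((a - a₁) * β)))
        _ = _ := by
          rw [Finset.sum_eq_single a₁]
          · rw [sub_self, zero_mul, if_pos rfl, mul_comm]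
          · intro a _ ha
            rw [if_neg (mul_ne_zero (sub_ne_zero.2 ha) hβ0), mul_zero, zero_smul]
          · simp
    have hu : IsUnit (R a₁) := (Group.isUnit (fr.yel (col a₁) (sig a₁) (hsig a₁))).map ρ
    rcases smul_eq_zero.1 hsum.symm with h | h
    · exact (mul_eq_zero.1 h).resolve_left (Nat.cast_ne_zero.2 Fintype.card_ne_zero)
    · exact absurd ((hu.mul_right_eq_zero).1 h) hE
  have h := hlin.fintype_card_le_finrank
  rw [hC.card, Module.finrank_linearMap, sq] at h
  exact Nat.mul_self_le_mul_self_iff.1 h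

/-- The degree bound in even dimension. -/
theorem degree_bound_even [IsSimpleGroup (Cfsg.PSU n F q)] (hperf : commutator ↥(Cfsg.SU n F q) = ⊤)
    (hC : Conj F q) (fr : Frame F q n m 0) (hm : 2 ≤ m) (ρ : Representation ℂ ↥(Cfsg.SU n F q) V)
    (hne : ∃ x, ρ x ≠ 1) : q ^ (2 * m) - 1 ≤ (q + 1) * finrank ℂ V := by
  classical
  obtain ⟨ψ, hψ, hinv⟩ := exists_invariant_char hC
  obtain ⟨T, hT, hTp⟩ := exists_chars hperf hC fr (Or.inr ⟨hm, rfl⟩) (by omega) ψ hψ hinv ρ hne
  refine hT.trans (Nat.mul_le_mul_left _ ?_)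
  have hK := CfsgLib.LinDeg.card_ne_zero F ℂ (by
    rw [ringChar.eq_zero]
    exact fun h => CharP.ringChar_ne_zero_of_finite F h.symm)
  rw [CfsgLib.LinDeg.finrank_eq_sum_range (CfsgLib.LinDeg.eigProj ψ (tau fr ρ)) (fun i j => by
      convert CfsgLib.LinDeg.eigProj_mul ψ hψ _ (tau_add fr ρ) hK i j using 2)
    (CfsgLib.LinDeg.sum_eigProj ψ hψ _ (tau_zero fr ρ) hK)]
  calc T.card = ∑ w ∈ T.image unmat, 1 := by
        rw [Finset.sum_const, smul_eq_mul, mul_one, Finset.card_image_of_injective _ fun a b h => by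
          rw [← mat_unmat a, h, mat_unmat]]
    _ ≤ ∑ w ∈ T.image unmat, finrank ℂ (LinearMap.range (CfsgLib.LinDeg.eigProj ψ (tau fr ρ) w)) := by
      refine Finset.sum_le_sum fun w hw => ?_
      obtain ⟨C, hC', rfl⟩ := Finset.mem_image.1 hw
      rw [Nat.one_le_iff_ne_zero]
      intro h
      rw [Submodule.finrank_eq_zero, LinearMap.range_eq_bot] at h
      exact (hTp C hC').2.2 h
    _ ≤ _ := Finset.sum_le_sum_of_subset (Finset.subset_univ _)

/-- The degree bound in odd dimension. -/
theorem degree_bound_odd [IsSimpleGroup (Cfsg.PSU n F q)] (hperf : commutator ↥(Cfsg.SU n F q) = ⊤)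
    (hC : Conj F q) (fr : Frame F q n m 1) (hm : 1 ≤ m) (ρ : Representation ℂ ↥(Cfsg.SU n F q) V)
    (hne : ∃ x, ρ x ≠ 1) : q * (q ^ (2 * m) - 1) ≤ (q + 1) * finrank ℂ V := by
  classical
  obtain ⟨ψ, hψ, hinv⟩ := exists_invariant_char hC
  obtain ⟨T, hT, hTp⟩ := exists_chars hperf hC fr (Or.inl rfl) hm ψ hψ hinv ρ hne
  refine (Nat.mul_le_mul_left q hT).trans ?_
  rw [← mul_assoc, mul_comm q (q + 1), mul_assoc]
  refine Nat.mul_le_mul_left _ ?_
  have hK := CfsgLib.LinDeg.card_ne_zero F ℂ (by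
    rw [ringChar.eq_zero]
    exact fun h => CharP.ringChar_ne_zero_of_finite F h.symm)
  rw [CfsgLib.LinDeg.finrank_eq_sum_range (CfsgLib.LinDeg.eigProj ψ (tau fr ρ)) (fun i j => by
      convert CfsgLib.LinDeg.eigProj_mul ψ hψ _ (tau_add fr ρ) hK i j using 2)
    (CfsgLib.LinDeg.sum_eigProj ψ hψ _ (tau_zero fr ρ) hK)]
  calc q * T.card = ∑ w ∈ T.image unmat, q := by
        rw [Finset.sum_const, smul_eq_mul, mul_comm, Finset.card_image_of_injective _ fun a b h => by
          rw [← mat_unmat a, h, mat_unmat]]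
    _ ≤ ∑ w ∈ T.image unmat, finrank ℂ (LinearMap.range (CfsgLib.LinDeg.eigProj ψ (tau fr ρ) w)) := by
      refine Finset.sum_le_sum fun w hw => ?_
      obtain ⟨C, hC', rfl⟩ := Finset.mem_image.1 hw
      exact le_finrank_range hC fr ψ hψ ρ (hTp C hC').1 (hTp C hC').2.1 (hTp C hC').2.2
    _ ≤ _ := Finset.sum_le_sum_of_subset (Finset.subset_univ _)

end CfsgLib.Classical.WeilSU
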