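/-
The minimal degrees of special unitary groups in terms of the standard form.
-/
import Cfsg.Agent.Lib.Classical.WeilSU.Bound
import Cfsg.Agent.Lib.Classical.PSUSimple

set_option autoImplicit false

namespace CfsgLib.Classical.WeilSU

open Matrix Module CfsgLib.SU

variable {F : Type*} [Field F] [Fintype F] {q : ℕ}

theorem su_perfect (hF : Fintype.card F = q ^ 2) {n : ℕ} (hn : 3 ≤ n) (h : ¬ (n = 3 ∧ q = 2)) :
    commutator ↥(Cfsg.SU n F q) = ⊤ := by
  classical
  obtain ⟨C⟩ := CfsgLib.Classical.uctx_exists hF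
  rw [eq_top_iff, ← CfsgLib.Perm.Trans.Unit.su_closure hF n hn h, Subgroup.closure_le]
  rintro A ⟨v, c, hv0, hA⟩
  rw [commutator_eq_closure]
  exact Subgroup.subset_closure (CfsgLib.Classical.su_transvection_mem C hn A v c hv0 hA)

/-- An irreducible representation of degree at least two is nontrivial. -/
theorem exists_ne_one {G : Type*} [Group G] {k : ℕ} (ρ : Representation ℂ G (Fin k → ℂ)) (hρ : ρ.IsIrreducible)
    (hk : 2 ≤ k) : ∃ x, ρ x ≠ 1 := by
  by_contra hne
  push Not at hne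
  let e : Fin k → ℂ := Pi.single ⟨0, by omega⟩ 1
  haveI := hρ
  have hb := IsSimpleOrder.eq_bot_or_eq_top (α := Subrepresentation ρ)
    { toSubmodule := Submodule.span ℂ {e}
      apply_mem_toSubmodule := fun g v hv => by rw [hne g]; exact hv }
  have he : e ≠ 0 := fun h => one_ne_zero (α := ℂ) (by simpa [e] using congrFun h ⟨0, by omega⟩)
  rcases hb with h | h
  · exact he (Submodule.span_singleton_eq_bot.1 (congrArg Subrepresentation.toSubmodule h))
  · have h' := congrArg (fun S => Module.finrank ℂ ↥(Subrepresentation.toSubmodule S)) h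
    rw [finrank_span_singleton he] at h'
    have h'' : Module.finrank ℂ ↥(⊤ : Submodule ℂ (Fin k → ℂ)) = 1 := h'.symm
    rw [finrank_top, Module.finrank_fin_fun] at h''
    omega

/-- The conjugation as a star ring. -/
abbrev ctxStarRing (C : UCtx F q) : StarRing F where
  star := C.bar
  star_involutive := C.bar_bar
  star_mul a b := by rw [mul_comm a b]; exact map_mul C.bar b a
  star_add := map_add C.bar

theorem degree_bound_even_dim (hF : Fintype.card F = q ^ 2) {m : ℕ} (hm : 2 ≤ m) {k : ℕ}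
    (ρ : Representation ℂ ↥(Cfsg.SU (m + m) F q) (Fin k → ℂ)) (hρ : ρ.IsIrreducible) (hk : 2 ≤ k) :
    q ^ (2 * m) - 1 ≤ (q + 1) * k := by
  classical
  obtain ⟨C⟩ := CfsgLib.Classical.uctx_exists hF
  letI := ctxStarRing C
  have hs : ∀ x : F, star x = C.bar x := fun _ => rfl
  have hC := conj_of_uctx C hs hF
  obtain ⟨l, hl⟩ := hC.norm (-1) (by rw [star_neg, star_one])
  obtain ⟨t, ht⟩ := hC.trace (-1) (by rw [star_neg, star_one])
  let fr : Frame F q (m + m) m 0 := ⟨C, hs, finSumFinEquiv.symm.trans (Equiv.sumEmpty (Fin m ⊕ Fin m) (Fin 0)).symm,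
    l, t, hl, ht⟩
  have h32 : ¬ (m + m = 3 ∧ q = 2) := by omega
  haveI := CfsgLib.Classical.psu_isSimple hF (n := m + m) (by omega) h32
  have h := degree_bound_even (su_perfect hF (by omega) h32) hC fr hm ρ (exists_ne_one ρ hρ hk)
  rwa [Module.finrank_fin_fun] at h

theorem degree_bound_odd_dim (hF : Fintype.card F = q ^ 2) {m : ℕ} (hm : 1 ≤ m) (hex : ¬ (m + m + 1 = 3 ∧ q = 2))
    {k : ℕ} (ρ : Representation ℂ ↥(Cfsg.SU (m + m + 1) F q) (Fin k → ℂ)) (hρ : ρ.IsIrreducible) (hk : 2 ≤ k) :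
    q * (q ^ (2 * m) - 1) ≤ (q + 1) * k := by
  classical
  obtain ⟨C⟩ := CfsgLib.Classical.uctx_exists hF
  letI := ctxStarRing C
  have hs : ∀ x : F, star x = C.bar x := fun _ => rfl
  have hC := conj_of_uctx C hs hF
  obtain ⟨l, hl⟩ := hC.norm (-1) (by rw [star_neg, star_one])
  obtain ⟨t, ht⟩ := hC.trace (-1) (by rw [star_neg, star_one])
  let fr : Frame F q (m + m + 1) m 1 := ⟨C, hs,
    finSumFinEquiv.symm.trans (Equiv.sumCongr finSumFinEquiv.symm (Equiv.refl _)), l, t, hl, ht⟩
  haveI := CfsgLib.Classical.psu_isSimple hF (n := m + m + 1) (by omega) hex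
  have h := degree_bound_odd (su_perfect hF (by omega) hex) hC fr hm ρ (exists_ne_one ρ hρ hk)
  rwa [Module.finrank_fin_fun] at h

end CfsgLib.Classical.WeilSU
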